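import Mathlib.RingTheory.Smooth.Field
import Mathlib.RingTheory.Smooth.Locus
import Mathlib.RingTheory.Nilpotent.Lemmas
import Mathlib.RingTheory.RegularLocalRing.Defs
import Mathlib.RingTheory.Localization.AtPrime.Basic
import Mathlib.RingTheory.KrullDimension.Zero
import Mathlib.RingTheory.LocalProperties.Reduced

/-! # Generic smoothness of reduced algebras over perfect fields -/

set_option autoImplicit false
set_option linter.style.haveILetI false

universe u

namespace Groth.L14.GenSm

variable {B : Type u} [CommRing B] [IsReduced B]

/-- An element killed outside every minimal prime of a reduced ring is zero. -/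
theorem eq_zero_of_minimal (x : B)
    (h : ∀ p ∈ minimalPrimes B, ∃ b ∉ p, b * x = 0) : x = 0 := by
  refine IsReduced.eq_zero _ ?_
  rw [← mem_nilradical, nilradical, Ideal.radical_eq_sInf, Submodule.mem_sInf]
  rintro q ⟨-, hq⟩
  obtain ⟨p, hp, hle⟩ := Ideal.exists_minimalPrimes_le (J := q) (bot_le (a := q))
  obtain ⟨b, hb, hbx⟩ := h p hp
  exact hle ((hp.1.1.mem_or_mem (hbx ▸ p.zero_mem)).resolve_left hb)

theorem isField_localization {p : Ideal B} (hp : p ∈ minimalPrimes B) [p.IsPrime] :
    IsField (Localization.AtPrime p) := by
  haveI : Ring.KrullDimLE 0 (Localization.AtPrime p) := .of_isLocalization _ hp _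
  exact Ring.KrullDimLE.isField_of_isReduced

theorem mem_smoothLocus_of_minimal {k : Type u} [Field k] [PerfectField k] [Algebra k B] [Algebra.FiniteType k B]
    {p : PrimeSpectrum B} (hp : p.asIdeal ∈ minimalPrimes B) : p ∈ Algebra.smoothLocus k B := by
  letI := (isField_localization hp).toField
  haveI : Algebra.EssFiniteType B (Localization.AtPrime p.asIdeal) :=
    Algebra.EssFiniteType.of_isLocalization _ p.asIdeal.primeCompl
  haveI : Algebra.EssFiniteType k (Localization.AtPrime p.asIdeal) := Algebra.EssFiniteType.comp k B _
  exact Algebra.FormallySmooth.of_perfectField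

end Groth.L14.GenSm
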