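import Groth.Agent.L14.GenSm.Basic
import Groth.Agent.L14.NLAmp.Main
import Groth.Agent.L13.Fitting.Minors
import Groth.Agent.L07.QuasiRegular
import Groth.Agent.L04.LC.ExtLoc
import Mathlib.RingTheory.Extension.Cotangent.Basis

/-! # Fitting ideals of a reduced complete intersection -/

set_option autoImplicit false
set_option linter.style.haveILetI false
set_option backward.isDefEq.respectTransparency false

universe u v

open CategoryTheory MvPolynomial

namespace Groth.L14.GenSm

section Minors

variable {R : Type u} [CommRing R] {M : Type v} [AddCommGroup M] [Module R M]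

/-- The ideal of `t × t` minors of a matrix. -/
def detSpan {m n : ℕ} (J : Matrix (Fin m) (Fin n) R) (t : ℕ) : Ideal R :=
  Ideal.span {d | ∃ (p : Fin t → Fin m) (q : Fin t → Fin n), d = (J.submatrix p q).det}

theorem detSpan_transpose {m n : ℕ} (J : Matrix (Fin m) (Fin n) R) (t : ℕ) :
    detSpan J.transpose t = detSpan J t := by
  refine congrArg Ideal.span (Set.ext fun d => ⟨?_, ?_⟩)
  · rintro ⟨p, q, rfl⟩
    exact ⟨q, p, by rw [← Matrix.transpose_submatrix, Matrix.det_transpose]⟩
  · rintro ⟨p, q, rfl⟩
    exact ⟨q, p, by rw [← Matrix.transpose_submatrix, Matrix.det_transpose]⟩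

theorem minors_eq_detSpan {m n : ℕ} (x : Fin n → M) (J : Matrix (Fin m) (Fin n) R)
    (hJ : Groth.L13.Fitting.rel (R := R) x = Submodule.span R (Set.range fun i => J i)) (t : ℕ) :
    Groth.L13.Fitting.minors (R := R) x t = detSpan J t := by
  refine le_antisymm (Ideal.span_le.2 ?_) (Ideal.span_le.2 ?_)
  · rintro _ ⟨z, e, hz, rfl⟩
    rw [SetLike.mem_coe, ← Matrix.det_transpose]
    refine Groth.L13.Fitting.det_mem_of_rows _ (fun _ => Set.range fun i => J i ∘ e) (fun b hb => ?_) _ fun i => ?_
    · choose p hp using hb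
      refine Ideal.subset_span ⟨p, e, ?_⟩
      congr 1
      funext i j
      exact (congrFun (hp i) j).symm
    · have h1 : z i ∈ Submodule.span R (Set.range fun i => J i) := hJ ▸ Groth.L13.Fitting.mem_rel.2 (hz i)
      have h2 := Submodule.mem_map_of_mem (f := LinearMap.funLeft R R e) h1
      rw [Submodule.map_span, ← Set.range_comp] at h2
      exact h2
  · rintro _ ⟨p, q, rfl⟩
    refine Ideal.subset_span ⟨fun j => J (p j), q, fun j => Groth.L13.Fitting.mem_rel.1
      (hJ ▸ Submodule.subset_span ⟨p j, rfl⟩), ?_⟩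
    rw [← Matrix.det_transpose]
    rfl

theorem fitt_eq_detSpan {m n : ℕ} (x : Fin n → M) (hx : Submodule.span R (Set.range x) = ⊤)
    (J : Matrix (Fin m) (Fin n) R)
    (hJ : Groth.L13.Fitting.rel (R := R) x = Submodule.span R (Set.range fun i => J i)) (r : ℕ) :
    Fitt.ideal R M r = detSpan J (n - r) := by
  rw [Groth.L13.Fitting.ideal_eq_tup x hx, Groth.L13.Fitting.tup_eq_minors, minors_eq_detSpan x J hJ]

end Minors

variable {k B : Type u} [Field k] [PerfectField k] [CommRing B] [Algebra k B] [IsReduced B] {r c : ℕ}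

/-- The conormal module of a complete intersection has the classes of the equations as a basis. -/
theorem exists_basis_cotangent (φ : MvPolynomial (Fin r) k →ₐ[k] B) (hφ : Function.Surjective φ)
    (a : Fin c → MvPolynomial (Fin r) k)
    (ha : RingTheory.Sequence.IsWeaklyRegular (MvPolynomial (Fin r) k) (List.ofFn a))
    (hker : RingHom.ker φ.toRingHom = Ideal.span (Set.range a)) :
    Nonempty (Module.Basis (Fin c) B (Groth.L14.NLAmp.gens φ hφ).toExtension.Cotangent) := by
  classical
  have hq := Groth.L07.QReg.isQuasiRegular_of_isWeaklyRegular ha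
  obtain ⟨c₀, hsurj, hsmul, hzero⟩ := Groth.L14.NLAmp.exists_cot φ hφ
  have hmem : ∀ i, a i ∈ RingHom.ker φ := fun i => hker.ge (Ideal.subset_span ⟨i, rfl⟩)
  let g : Fin c → RingHom.ker φ := fun i => ⟨a i, hmem i⟩
  have hsum : ∀ b : Fin c → MvPolynomial (Fin r) k, c₀ (∑ i, b i • g i) = ∑ i, φ (b i) • c₀ (g i) := fun b => by
    rw [map_sum]; exact Finset.sum_congr rfl fun i _ => hsmul _ _
  have hcoe : ∀ b : Fin c → MvPolynomial (Fin r) k,
      ((∑ i, b i • g i : RingHom.ker φ) : MvPolynomial (Fin r) k) = ∑ i, b i * a i := fun b => by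
    simp [g, AddSubmonoidClass.coe_finsetSum]
  refine ⟨Module.Basis.mk (v := fun i => c₀ (g i)) ?_ ?_⟩
  · rw [Fintype.linearIndependent_iff]
    intro b hb i
    choose t ht using fun i => hφ (b i)
    simp only [← ht] at hb ⊢
    rw [← hsum, hzero, hcoe] at hb
    have h2 : RingHom.ker φ = Ideal.span (Set.range a) := hker
    rw [h2] at hb
    have h := hq 1 (∑ j, C (t j) * X j) (IsHomogeneous.sum _ _ _ fun j _ => (isHomogeneous_X _ j).C_mul _)
      (by simpa using hb) (Finsupp.single i 1)
    have h3 : t i ∈ RingHom.ker φ := by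
      rw [h2]
      simpa [coeff_sum, coeff_C_mul, coeff_X', Finsupp.single_eq_single_iff, eq_comm] using h
    exact h3
  · intro z _
    obtain ⟨⟨y, hy⟩, rfl⟩ := hsurj z
    obtain ⟨b, hb⟩ := Ideal.mem_span_range_iff_exists_fun.1 (hker.le hy)
    rw [show (⟨y, hy⟩ : RingHom.ker φ) = ∑ i, b i • g i from Subtype.ext ((hcoe b).trans hb).symm, hsum]
    exact Submodule.sum_mem _ fun i _ => Submodule.smul_mem _ _ (Submodule.subset_span ⟨i, rfl⟩)

theorem fitt_omega_eq_fitt_t1 (φ : MvPolynomial (Fin r) k →ₐ[k] B) (hφ : Function.Surjective φ)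
    (a : Fin c → MvPolynomial (Fin r) k)
    (ha : RingTheory.Sequence.IsWeaklyRegular (MvPolynomial (Fin r) k) (List.ofFn a))
    (hker : RingHom.ker φ.toRingHom = Ideal.span (Set.range a)) :
    Fitt.ideal B (KaehlerDifferential k B) (r - c) =
      Fitt.ideal B (Abelian.Ext.{u} (ModuleCat.of B (KaehlerDifferential k B)) (ModuleCat.of B B) 1) 0 := by
  classical
  rcases subsingleton_or_nontrivial B with hB | hB
  · exact Subsingleton.elim _ _
  haveI : Algebra.FiniteType k B := Algebra.FiniteType.of_surjective φ hφ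
  let G := Groth.L14.NLAmp.gens φ hφ
  obtain ⟨bC⟩ := exists_basis_cotangent φ hφ a ha hker
  let e : Module.Basis (Fin r) B G.toExtension.CotangentSpace := G.cotangentSpaceBasis
  haveI : Module.Projective B G.toExtension.CotangentSpace := Module.Projective.of_basis e
  haveI : Module.Finite B G.toExtension.CotangentSpace := Module.Finite.of_basis e
  let f := G.toExtension.cotangentComplex
  let g := G.toExtension.toKaehler
  have hg : Function.Surjective g := G.toExtension.toKaehler_surjective
  have hfg : Function.Exact f g := G.toExtension.exact_cotangentComplex_toKaehler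
  have hfi : Function.Injective f := by
    rw [injective_iff_map_eq_zero]
    intro z hz
    refine bC.ext_elem fun i => ?_
    rw [map_zero, Finsupp.zero_apply]
    refine eq_zero_of_minimal _ fun p hp => ?_
    haveI : p.IsPrime := hp.1.1
    have hsm := mem_smoothLocus_of_minimal (k := k) (p := (⟨p, inferInstance⟩ : PrimeSpectrum B)) hp
    rw [Algebra.smoothLocus_eq_compl_support_inter] at hsm
    obtain ⟨b, hb, hbz⟩ := Module.notMem_support_iff'.1 hsm.1 (G.equivH1Cotangent ⟨z, hz⟩)
    rw [← map_smul, LinearEquiv.map_eq_zero_iff] at hbz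
    refine ⟨b, hb, ?_⟩
    have h0 : b • z = 0 := congrArg Subtype.val hbz
    rw [← smul_eq_mul, ← Finsupp.smul_apply, ← map_smul, h0, map_zero, Finsupp.zero_apply]
  have hcr : c ≤ r := by
    have h := LinearMap.finrank_le_finrank_of_injective (f := f) (M' := G.toExtension.CotangentSpace) hfi
    rwa [Module.finrank_eq_card_basis bC, Module.finrank_eq_card_basis e, Fintype.card_fin, Fintype.card_fin] at h
  let J : Matrix (Fin c) (Fin r) B := Matrix.of fun i j => e.repr (f (bC i)) j
  have hx : Submodule.span B (Set.range fun j => g (e j)) = ⊤ := by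
    rw [show (Set.range fun j => g (e j)) = g '' Set.range e from Set.range_comp g e, ← Submodule.map_span,
      e.span_eq, Submodule.map_top, LinearMap.range_eq_top]
    exact hg
  have hrx : Groth.L13.Fitting.rel (R := B) (fun j => g (e j)) = Submodule.span B (Set.range fun i => J i) := by
    have h1 : Groth.L13.Fitting.rel (R := B) (fun j => g (e j)) =
        (LinearMap.ker g).map e.equivFun.toLinearMap := by
      ext z
      rw [Groth.L13.Fitting.mem_rel, Submodule.mem_map_equiv, LinearMap.mem_ker, Module.Basis.equivFun_symm_apply,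
        map_sum]
      simp only [map_smul]
    rw [h1, hfg.linearMap_ker_eq, ← Submodule.map_top, ← bC.span_eq, Submodule.map_span, Submodule.map_span,
      ← Set.range_comp, ← Set.range_comp]
    rfl
  obtain ⟨e₁⟩ := Groth.L04.LC.nonempty_ext_one_equiv (A := B) (K := G.toExtension.Cotangent)
    (F := G.toExtension.CotangentSpace) (M := KaehlerDifferential k B) f g hfi hg hfg B
  let y : Fin c → Abelian.Ext.{u} (ModuleCat.of B (KaehlerDifferential k B)) (ModuleCat.of B B) 1 :=
    fun i => e₁.symm (Submodule.Quotient.mk (bC.coord i))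
  have hcoord : ∀ h : G.toExtension.Cotangent →ₗ[B] B, h = ∑ i, h (bC i) • bC.coord i := fun h =>
    bC.ext fun j => by simp [Finsupp.single_apply]; rfl
  have hy : Submodule.span B (Set.range y) = ⊤ := by
    refine eq_top_iff.2 fun z _ => ?_
    obtain ⟨h, hh⟩ := Submodule.Quotient.mk_surjective _ (e₁ z)
    rw [← e₁.symm_apply_apply z, ← hh, hcoord h, ← Submodule.mkQ_apply, map_sum, map_sum]
    refine Submodule.sum_mem _ fun i _ => ?_
    rw [map_smul, map_smul]
    exact Submodule.smul_mem _ _ (Submodule.subset_span ⟨i, rfl⟩)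
  have hry : Groth.L13.Fitting.rel (R := B) y = Submodule.span B (Set.range fun j => J.transpose j) := by
    have h1 : ∀ (h : G.toExtension.CotangentSpace →ₗ[B] B) i, h (f (bC i)) = ∑ j, h (e j) * J i j := fun h i => by
      conv_lhs => rw [← e.sum_repr (f (bC i)), map_sum]
      exact Finset.sum_congr rfl fun j _ => by rw [map_smul, smul_eq_mul, mul_comm]; rfl
    ext z
    rw [Groth.L13.Fitting.mem_rel]
    have h2 : ∑ i, z i • y i = e₁.symm (Submodule.Quotient.mk (∑ i, z i • bC.coord i)) := by
      rw [← Submodule.mkQ_apply, map_sum, map_sum]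
      simp only [map_smul]
      rfl
    have h3 : ∀ i, (∑ j, z j • bC.coord j) (bC i) = z i := fun i => by simp [Finsupp.single_apply]
    rw [h2, LinearEquiv.map_eq_zero_iff, Submodule.Quotient.mk_eq_zero, Submodule.mem_span_range_iff_exists_fun]
    constructor
    · rintro ⟨h, hh⟩
      refine ⟨fun j => h (e j), funext fun i => ?_⟩
      rw [← h3 i, ← hh, LinearMap.lcomp_apply, h1]
      simp
    · rintro ⟨w, rfl⟩
      refine ⟨e.constr B w, bC.ext fun i => ?_⟩
      rw [h3, LinearMap.lcomp_apply, h1]
      simp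
  rw [fitt_eq_detSpan _ hx J hrx, fitt_eq_detSpan y hy J.transpose hry, detSpan_transpose,
    show r - (r - c) = c from by omega, Nat.sub_zero]

end Groth.L14.GenSm
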