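import Groth.Agent.L12.CotTSmooth
import Groth.Agent.L14.GenSm.Basic
import Groth.Agent.L04.LC.ExtLoc

/-! # `T²` of a reduced algebra as an extension module -/

set_option autoImplicit false
set_option linter.style.haveILetI false

universe u v w t

open TensorProduct CotT Groth.L12.CotTLib

namespace Groth.L14.GenSm

section Koszul

variable {A : Type u} {B : Type v} {ι : Type w} {σ : Type t}
variable [CommRing A] [CommRing B] [Algebra A B] (P : Algebra.Presentation A B ι σ)

/-- The kernel of `d₂` is killed outside a prime where the ideal is generated by a Koszul-regular sequence. -/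
theorem exists_smul_eq_zero_of_d2 (p : Ideal P.toExtension.Ring) [p.IsPrime]
    (H : ∀ S : Finset σ,
      ∃ (c : ℕ) (f : Fin c → P.toExtension.Ring) (u : P.toExtension.Ring), u ∉ p ∧
        (∀ k, f k ∈ P.toExtension.ker) ∧ (∀ s ∈ S, u * rel P s ∈ Ideal.span (Set.range f)) ∧
        ∀ z : Fin c → P.toExtension.Ring, ∑ k, z k * f k = 0 →
          ∃ u', u' ∉ p ∧ u' • z ∈ Groth.L07.RegSeq.triv f P.toExtension.Ring)
    (z : L2 P) (hz : d2 P z = 0) : ∃ r, r ∉ p ∧ r • z = 0 := by
  classical
  obtain ⟨q, rfl⟩ := relClass_surjective P z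
  rw [d2_relClass] at hz
  set g : Gq P := Submodule.Quotient.mk (q : relMod P) with hg
  let J : Ideal P.toExtension.Ring :=
    LinearMap.ker (LinearMap.toSpanSingleton P.toExtension.Ring (Gq P) g)
  obtain ⟨c, f, u, hu, hf, hspan, hH1⟩ := H (q : relMod P).support
  choose d hd using fun k => jker_surjective P ⟨f k, hf k⟩
  let v : Fin c → Gq P := fun k => Submodule.Quotient.mk (d k)
  have hv : ∀ k, gj P (v k) = f k := fun k => congrArg Subtype.val (hd k)
  have hsp : ∀ s : σ, ∃ cs : Fin c → P.toExtension.Ring,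
      s ∈ (q : relMod P).support → ∑ k, cs k * f k = u * rel P s := fun s => by
    by_cases hs : s ∈ (q : relMod P).support
    · obtain ⟨cs, hcs⟩ := Ideal.mem_span_range_iff_exists_fun.1 (hspan s hs)
      exact ⟨cs, fun _ => hcs⟩
    · exact ⟨0, fun h => absurd h hs⟩
  choose cs hcs using hsp
  let zz : Fin c → P.toExtension.Ring := fun k => ∑ s ∈ (q : relMod P).support, (q : relMod P) s * cs s k
  have hjq : ∑ s ∈ (q : relMod P).support, (q : relMod P) s * rel P s = 0 := by
    have : jmap P (q : relMod P) = 0 := q.2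
    rwa [jmap, Finsupp.linearCombination_apply, Finsupp.sum] at this
  have hrel : ∑ k, zz k * f k = 0 := by
    simp only [zz, Finset.sum_mul, mul_assoc]
    rw [Finset.sum_comm]
    calc ∑ s ∈ (q : relMod P).support, ∑ k, (q : relMod P) s * (cs s k * f k)
        = ∑ s ∈ (q : relMod P).support, (q : relMod P) s * (u * rel P s) :=
          Finset.sum_congr rfl fun s hs => by rw [← Finset.mul_sum, hcs s hs]
      _ = u * ∑ s ∈ (q : relMod P).support, (q : relMod P) s * rel P s := by
          rw [Finset.mul_sum]; exact Finset.sum_congr rfl fun s _ => by ring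
      _ = 0 := by rw [hjq, mul_zero]
  obtain ⟨u', hu', htriv⟩ := hH1 zz hrel
  have h2 : u' • ∑ k, zz k • v k = 0 := by
    rw [Finset.smul_sum]
    simp only [smul_smul]
    exact sum_smul_eq_zero_of_triv P v f hv _ htriv
  -- `u g` is the Koszul part
  have h3 : u • g = ∑ k, zz k • v k := by
    rw [hg, mk_eq_sum, Finset.smul_sum]
    simp only [zz, Finset.sum_smul]
    rw [Finset.sum_comm (s := Finset.univ), ← sub_eq_zero, ← Finset.sum_sub_distrib]
    refine Finset.sum_eq_zero fun s hs => ?_
    have hε : jmap P (u • Finsupp.single s 1 - ∑ k, cs s k • d k) = 0 := by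
      rw [map_sub, map_smul, jmap_single, one_mul, map_sum, smul_eq_mul, sub_eq_zero, ← hcs s hs]
      refine Finset.sum_congr rfl fun k _ => ?_
      rw [map_smul, smul_eq_mul]
      exact congrArg _ (congrArg Subtype.val (hd k)).symm
    have h4 := smul_mk_eq_zero P ⟨_, hε⟩ _ (mem_ker_of_tmul_eq_zero P _ hz s)
    rw [Submodule.Quotient.mk_sub, Submodule.Quotient.mk_smul, ← Submodule.mkQ_apply (p := trivRel P) (∑ k, cs s k • d k),
      map_sum, smul_sub, Finset.smul_sum] at h4
    rw [smul_comm]
    refine Eq.trans ?_ h4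
    congr 1
    exact Finset.sum_congr rfl fun k _ => by rw [map_smul, smul_smul]; rfl
  have h5 : u' * u ∈ J := by
    simp only [J, LinearMap.mem_ker, LinearMap.toSpanSingleton_apply, mul_smul, h3, h2]
  refine ⟨u' * u, fun h => (‹p.IsPrime›.mem_or_mem h).elim hu' hu, ?_⟩
  rw [← map_smul, relClass_eq_zero_iff, Submodule.coe_smul, Submodule.Quotient.mk_smul]
  simpa [J] using h5

end Koszul

section Field

variable {k B ι σ : Type u} [Field k] [CommRing B] [Algebra k B] [Finite ι]
  (P : Algebra.Presentation k B ι σ)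

/-- Koszul generation at a regular point. -/
theorem koszul_at_regular (p' : Ideal B) [p'.IsPrime] [IsRegularLocalRing (Localization.AtPrime p')] (S : Finset σ) :
      ∃ (c : ℕ) (f : Fin c → P.toExtension.Ring) (u : P.toExtension.Ring),
        u ∉ p'.comap (algebraMap P.toExtension.Ring B) ∧
        (∀ k, f k ∈ P.toExtension.ker) ∧ (∀ s ∈ S, u * rel P s ∈ Ideal.span (Set.range f)) ∧
        ∀ z : Fin c → P.toExtension.Ring, ∑ k, z k * f k = 0 →
          ∃ u', u' ∉ p'.comap (algebraMap P.toExtension.Ring B) ∧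
            u' • z ∈ Groth.L07.RegSeq.triv f P.toExtension.Ring := by
  classical
  have hsurj : Function.Surjective (algebraMap P.toExtension.Ring B) := P.toExtension.algebraMap_surjective
  haveI : IsRegularRing k := inferInstance
  haveI : IsRegularRing P.toExtension.Ring := inferInstanceAs (IsRegularRing (MvPolynomial _ k))
  set Rp := Localization.AtPrime (p'.comap (algebraMap P.toExtension.Ring B))
  haveI : IsRegularLocalRing Rp := IsRegularRing.isRegularLocalRing_localization _
  let φ : Rp →+* Localization.AtPrime p' := Localization.localRingHom _ p' (algebraMap P.toExtension.Ring B) rfl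
  have hφ : Function.Surjective φ := RingHom.surjective_localRingHom_of_surjective _ hsurj p'
  obtain ⟨d, hd⟩ := Groth.L01.exists_dim_eq_nat (R := Rp)
  obtain ⟨l₁, l₂, hlen, hmax, hI⟩ := Groth.L01.exists_lists_of_regular_quotient d Rp hd (RingHom.ker φ)
    (IsRegularLocalRing.of_ringEquiv (RingHom.quotientKerEquivOfSurjective hφ).symm)
  have hreg : RingTheory.Sequence.IsWeaklyRegular Rp l₁ :=
    ((RingTheory.Sequence.isWeaklyRegular_append_iff Rp _ _).1
      (Groth.L01.isRegular_of_ofList_eq_maximalIdeal (l₁ ++ l₂) hmax (by rw [hlen, hd])).toIsWeaklyRegular).1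
  let g : Fin l₁.length → Rp := fun i => l₁.get i
  have hl : List.ofFn g = l₁ := List.ofFn_get l₁
  have hgI : RingHom.ker φ = Ideal.span (Set.range g) := by
    rw [hI]
    exact (congrArg Ideal.ofList hl.symm).trans (Groth.L07.QReg.ofList_ofFn g)
  have hnum : ∀ i, ∃ (a : P.toExtension.Ring) (s : (p'.comap (algebraMap P.toExtension.Ring B)).primeCompl),
      a ∈ P.toExtension.ker ∧ g i * algebraMap _ Rp (s : P.toExtension.Ring) = algebraMap _ Rp a := fun i => by
    have h1 : g i ∈ (RingHom.ker (algebraMap P.toExtension.Ring B)).map (algebraMap _ Rp) :=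
      mem_map_ker_of_localRingHom _ hsurj p' (g i) (RingHom.mem_ker.1 (hgI ▸ Ideal.subset_span ⟨i, rfl⟩))
    obtain ⟨⟨⟨a, ha⟩, s⟩, h⟩ := (IsLocalization.mem_map_algebraMap_iff
      (p'.comap (algebraMap P.toExtension.Ring B)).primeCompl Rp).1 h1
    exact ⟨a, s, ha, h⟩
  choose a s ha hs using hnum
  have hunit : ∀ i, IsUnit (algebraMap _ Rp ((s i : P.toExtension.Ring))) := fun i =>
    IsLocalization.map_units Rp (s i)
  have hfg : (fun i => algebraMap _ Rp (a i)) = fun i => algebraMap _ Rp (s i : P.toExtension.Ring) * g i :=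
    funext fun i => by rw [← hs, mul_comm]
  have hspan : Ideal.span (Set.range fun i => algebraMap _ Rp (a i)) = RingHom.ker φ := by
    rw [hgI]
    refine le_antisymm (Ideal.span_le.2 ?_) (Ideal.span_le.2 ?_)
    · rintro _ ⟨i, rfl⟩
      dsimp only
      rw [congrFun hfg i]
      exact Ideal.mul_mem_left _ _ (Ideal.subset_span ⟨i, rfl⟩)
    · rintro _ ⟨i, rfl⟩
      rw [SetLike.mem_coe, ← Ideal.unit_mul_mem_iff_mem _ (hunit i), ← congrFun hfg i]
      exact Ideal.subset_span ⟨i, rfl⟩
  have hrels : ∀ σ' ∈ S, ∃ u : P.toExtension.Ring, u ∉ p'.comap (algebraMap P.toExtension.Ring B) ∧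
      u * rel P σ' ∈ Ideal.span (Set.range a) := fun σ' _ => by
    have h1 : algebraMap _ Rp (rel P σ') ∈ (Ideal.span (Set.range a)).map (algebraMap _ Rp) := by
      rw [Ideal.map_span, ← Set.range_comp]
      change _ ∈ Ideal.span (Set.range fun i => algebraMap _ Rp (a i))
      rw [hspan, RingHom.mem_ker, Localization.localRingHom_to_map, algebraMap_rel, map_zero]
    obtain ⟨⟨x, t⟩, h⟩ := (IsLocalization.mem_map_algebraMap_iff
      (p'.comap (algebraMap P.toExtension.Ring B)).primeCompl Rp).1 h1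
    rw [← map_mul, IsLocalization.eq_iff_exists (p'.comap (algebraMap P.toExtension.Ring B)).primeCompl Rp] at h
    obtain ⟨c, hc⟩ := h
    refine ⟨c * t, fun hm => (Ideal.IsPrime.mem_or_mem inferInstance hm).elim c.2 t.2, ?_⟩
    rw [mul_assoc, mul_comm (t : P.toExtension.Ring), hc]
    exact Ideal.mul_mem_left _ _ x.2
  choose! u hu hur using hrels
  refine ⟨_, a, ∏ σ' ∈ S, u σ', fun hm => ?_, ha, fun σ' hσ => ?_, fun z hz =>
    koszul_of_localization _ a ?_ z hz⟩
  · obtain ⟨σ', hσ, hm'⟩ := (Ideal.IsPrime.prod_mem_iff).1 hm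
    exact hu σ' hσ hm'
  · rw [← Finset.mul_prod_erase _ _ hσ, mul_comm (u σ'), mul_assoc]
    exact Ideal.mul_mem_left _ _ (hur σ' hσ)
  · rw [hfg]
    exact koszul_unit_mul g _ hunit (Groth.L07.RegSeq.koszulH1Zero_of_isWeaklyRegular (by rw [hl]; exact hreg))

set_option maxHeartbeats 1000000 in
theorem nonempty_T2_equiv_ext [IsReduced B] :
    Nonempty (T2 P B ≃ₗ[B]
      CategoryTheory.Abelian.Ext (ModuleCat.of B P.toExtension.Cotangent) (ModuleCat.of B B) 1) := by
  classical
  have hkill : ∀ φ : L2 P →ₗ[B] B, LinearMap.ker (d2 P) ≤ LinearMap.ker φ := by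
    intro φ z hz
    refine LinearMap.mem_ker.2 (eq_zero_of_minimal _ fun p hp => ?_)
    haveI : p.IsPrime := hp.1.1
    letI := (isField_localization hp).toField
    haveI : IsRegularLocalRing (Localization.AtPrime p) := inferInstance
    obtain ⟨r, hr, hrz⟩ := exists_smul_eq_zero_of_d2 P (p.comap (algebraMap P.toExtension.Ring B))
      (koszul_at_regular P p) z hz
    refine ⟨algebraMap P.toExtension.Ring B r, hr, ?_⟩
    rw [← smul_eq_mul, ← map_smul, algebraMap_smul, hrz, map_zero]
  let K := LinearMap.range (d2 P)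
  let dK : L2 P →ₗ[B] K := (d2 P).rangeRestrict
  let Ψ : (K →ₗ[B] B) ≃ₗ[B] (L2 P →ₗ[B] B) := LinearEquiv.ofBijective (LinearMap.lcomp B B dK)
    ⟨fun a b h => LinearMap.ext fun x => by
      obtain ⟨y, rfl⟩ := (d2 P).surjective_rangeRestrict x
      exact LinearMap.congr_fun h y,
    fun φ => ⟨(LinearMap.ker (d2 P)).liftQ φ (hkill φ) ∘ₗ (d2 P).quotKerEquivRange.symm.toLinearMap,
      LinearMap.ext fun x => by
        show (LinearMap.ker (d2 P)).liftQ φ (hkill φ) ((d2 P).quotKerEquivRange.symm (dK x)) = φ x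
        rw [show dK x = (d2 P).quotKerEquivRange (Submodule.Quotient.mk x) from Subtype.ext rfl,
          LinearEquiv.symm_apply_apply, Submodule.liftQ_apply]⟩⟩
  haveI : Module.Projective B (L1 P) := Module.Projective.of_basis (L1basis P)
  obtain ⟨e⟩ := Groth.L04.LC.nonempty_ext_one_equiv (A := B) (K := ↥K) (F := L1 P) (M := P.toExtension.Cotangent) K.subtype (toCot P) K.subtype_injective (toCot_surjective P)
    (by
      rw [LinearMap.exact_iff, Submodule.range_subtype]
      exact (exact_d2_toCot P).linearMap_ker_eq) B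
  refine ⟨(Submodule.Quotient.equiv (LinearMap.range (K.subtype.lcomp B B)) (LinearMap.range (d2Star P B)) Ψ ?_).symm.trans e.symm⟩
  refine le_antisymm ?_ ?_
  · rintro _ ⟨_, ⟨h, rfl⟩, rfl⟩
    exact ⟨h, LinearMap.ext fun x => rfl⟩
  · rintro _ ⟨h, rfl⟩
    exact ⟨K.subtype.lcomp B B h, ⟨h, rfl⟩, LinearMap.ext fun x => rfl⟩

end Field

end Groth.L14.GenSm
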